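import Groth.Agent.L23.IntCover.FiniteDense
import Groth.Agent.L23.RedInd
import Groth.Agent.S10035
import Groth.Agent.S10057
import Groth.Agent.S10350

/-!
# Closed subspaces of finite presentation, descent along etale covers
-/

universe u

open CategoryTheory CategoryTheory.Limits AlgebraicGeometry Opposite AlgSp

set_option backward.isDefEq.respectTransparency.types false
set_option backward.isDefEq.respectTransparency false
set_option linter.style.haveILetI false

namespace Groth.L23.Filtr88

variable {S : Scheme.{u}}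

/-- A closed set with quasi-compact complement carries a finitely presented closed subspace. -/
theorem exists_fp_closedSub [QuasiSeparatedSpace S] (X : Space S) (hqc : IsQuasiCompactSp X.obj)
    (hqs : IsQuasiSeparatedSp X.obj) {C : Set (Points X.obj)} (hC : IsClosed C) (hL : IsCompact Cᶜ) :
    ∃ (Z : Space S) (z : Z ⟶ X), RepWith @IsClosedImmersion z.hom ∧ IsFinitePresentationMor z.hom ∧
      Set.range (Points.map z.hom) = C := by
  obtain ⟨Zr, hZr, i, hi, hir, -⟩ := exists_isRedInduced X.property hC
  obtain ⟨I, _, _, _, D, t, c, hc, e, hD, haff, ht, htg⟩ :=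
    Groth.Agent.S10035.result S (X := ⟨Zr, hZr⟩) (Y := X) (ObjectProperty.homMk i) hi hqc hqs
  haveI : ∀ i, Mono (t.app i) := fun i => mono_of_yon fun T a b h => by
    obtain ⟨Q, fst, snd, sq⟩ := exists_isPullback_of_representable (X.property.representable_from_yon (a ≫ t.app i))
      (a ≫ t.app i)
    have sqt := (ht i).1.1.isPullback (a ≫ t.app i)
    haveI : IsClosedImmersion ((ht i).1.1.snd (a ≫ t.app i)).left := repWith_snd (ht i).1 _
    obtain ⟨la, hla₁, hla₂⟩ := sqt.exists_lift a (𝟙 _) (Category.id_comp _).symm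
    obtain ⟨lb, hlb₁, hlb₂⟩ := sqt.exists_lift b (𝟙 _) (h.symm.trans (Category.id_comp _).symm)
    haveI : Mono ((ht i).1.1.snd (a ≫ t.app i)) := by
      haveI : Mono ((Over.forget S).map ((ht i).1.1.snd (a ≫ t.app i))) :=
        inferInstanceAs (Mono ((ht i).1.1.snd (a ≫ t.app i)).left)
      exact (Over.forget S).mono_of_mono_map this
    obtain ⟨la, rfl⟩ := (yon S).map_surjective la
    obtain ⟨lb, rfl⟩ := (yon S).map_surjective lb
    rw [← hla₁, ← hlb₁]
    refine congrArg (fun m => (yon S).map m ≫ _) ((cancel_mono ((ht i).1.1.snd (a ≫ t.app i))).1 ?_)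
    apply (yon S).map_injective
    rw [Functor.map_comp, Functor.map_comp, hla₂, hlb₂]
  have hDqs : ∀ i, IsQuasiSeparatedSp (D.obj i) := fun i =>
    RelSpec.qsSp_of_affine hqs (repWith_mono (fun φ (_ : IsClosedImmersion φ) => inferInstanceAs (IsAffineHom φ)) (ht i).1)
  have hDa : ∀ (a b : Iᵒᵖ) (φ : a ⟶ b), IsAffineMor (D.map φ) := fun a b φ =>
    isAffineMor_iff.2 (repWith_mono (fun ψ (_ : IsClosedImmersion ψ) => inferInstanceAs (IsAffineHom ψ)) (haff a b φ))
  have hclosed : ∀ a, IsClosed (Set.range (Points.map (t.app a))) := fun a =>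
    (EtaleGlue.isClosedMap_of_univClosed X.property ((repWith_universallyClosed_iff (ht a).1.1).1
      (repWith_mono (fun φ (_ : IsClosedImmersion φ) => inferInstanceAs (UniversallyClosed φ)) (ht a).1))).isClosed_range
  have hsub : ∀ a, C ⊆ Set.range (Points.map (t.app a)) := fun a x hx => by
    rw [← hir] at hx
    obtain ⟨z, rfl⟩ := hx
    exact ⟨Points.map (e.inv ≫ c.π.app a) z, by rw [← Points.map_comp, Category.assoc, htg a]; rfl⟩
  have hempty : Cᶜ ∩ ⋂ a, Set.range (Points.map (t.app a)) = ∅ := by
    refine Set.eq_empty_iff_forall_notMem.2 fun x ⟨hxC, hx⟩ => hxC ?_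
    choose s hs using fun a => Set.mem_iInter.1 hx a
    obtain ⟨p, hp⟩ := (Groth.Agent.S10057.result S D hD hDa c hc
      (fun a => Groth.Agent.S10350.result ⟨D.obj a, hD a⟩ (hDqs a))).2 s (fun a b φ => by
        refine QFL.map_injective_of_mono (t.app b) ?_
        rw [← Points.map_comp, hs b]
        exact (congrArg (fun m => Points.map m (s a)) ((t.naturality φ).trans (Category.comp_id _))).trans (hs a))
    obtain ⟨a⟩ := (inferInstance : Nonempty Iᵒᵖ)
    rw [← hir]
    refine ⟨Points.map e.hom p, ?_⟩
    rw [← hs a, ← hp a, ← Points.map_comp, ← Points.map_comp]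
    have := congrArg (fun m => e.hom ≫ m) (htg a)
    simp only [Iso.hom_inv_id_assoc] at this
    exact congrArg (fun m => Points.map m p) this.symm
  obtain ⟨a, ha⟩ := hL.elim_directed_family_closed _ hclosed hempty (fun a b => by
    refine ⟨IsCofiltered.min a b, ?_, ?_⟩ <;> rintro _ ⟨z, rfl⟩
    · exact ⟨Points.map (D.map (IsCofiltered.minToLeft a b)) z, by
        rw [← Points.map_comp]
        exact congrArg (fun m => Points.map m z) ((t.naturality _).trans (Category.comp_id _))⟩
    · exact ⟨Points.map (D.map (IsCofiltered.minToRight a b)) z, by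
        rw [← Points.map_comp]
        exact congrArg (fun m => Points.map m z) ((t.naturality _).trans (Category.comp_id _))⟩)
  refine ⟨⟨D.obj a, hD a⟩, ObjectProperty.homMk (t.app a), (ht a).1, (ht a).2,
    Set.Subset.antisymm (fun x hx => ?_) (hsub a)⟩
  by_contra hxC
  exact Set.eq_empty_iff_forall_notMem.1 ha x ⟨hxC, hx⟩

/-- Descent of a property along an etale surjective chart of the target. -/
theorem repWith_of_etale_cover {P : MorphismProperty Scheme.{u}} [P.IsStableUnderBaseChange]
    [IsZariskiLocalAtTarget P] [P.DescendsAlong (@Surjective ⊓ @Flat ⊓ @QuasiCompact)]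
    {F Y : Sp S} {f : F ⟶ Y} (hf : Representable f) {V : Over S} {p : (yon S).obj V ⟶ Y}
    (hp : RepWith @Etale p) (hps : RepWith @Surjective p) {Q : Sp S} {fst : Q ⟶ F} {snd : Q ⟶ (yon S).obj V}
    (sq : IsPullback fst snd f p) (h : RepWith P snd) : RepWith P f := by
  refine repWith_of_affine f fun Z hZ g => ⟨_, hf.snd g, hf.fst g, hf.isPullback g, ?_⟩
  haveI := hZ
  obtain ⟨Z', e, m, hZ', he, hes, w⟩ := exists_affine_refine hp hps g
  have sq₀ := IsPullback.of_hasPullback (hf.snd g) e
  have sq₁ := (sq₀.map (yon S)).paste_horiz (hf.isPullback g)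
  rw [← w] at sq₁
  obtain ⟨n, hn₁, hn₂⟩ := sq.exists_lift ((yon S).map (pullback.fst (hf.snd g) e) ≫ hf.fst g)
    ((yon S).map (pullback.snd (hf.snd g) e) ≫ (yon S).map m) (by rw [Category.assoc, Category.assoc]; simpa using sq₁.w)
  have sq₂ : IsPullback n ((yon S).map (pullback.snd (hf.snd g) e)) snd ((yon S).map m) :=
    IsPullback.of_right (by rw [hn₁]; exact sq₁) hn₂ sq
  have hq := repWith_prop h sq₂
  have sq₃ := (sq₀.map (Over.forget S))
  haveI : IsAffineHom e.left := isAffineHom_of_isAffine _
  refine MorphismProperty.of_isPullback_of_descendsAlong sq₃.flip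
    (show (@Surjective ⊓ @Flat ⊓ @QuasiCompact : MorphismProperty Scheme.{u}) e.left from
      ⟨⟨hes, inferInstanceAs (Flat e.left)⟩, inferInstanceAs (QuasiCompact e.left)⟩) hq

end Groth.L23.Filtr88
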