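import Groth.Agent.L23.Filtr88.Split

/-!
# Gluing over a coproduct of two schemes
-/

universe u

open CategoryTheory CategoryTheory.Limits AlgebraicGeometry Opposite AlgSp TopologicalSpace

set_option backward.isDefEq.respectTransparency.types false
set_option backward.isDefEq.respectTransparency false
set_option linter.style.haveILetI false

namespace Groth.L23.Filtr88

variable {A B : Scheme.{u}}

theorem isClosedImmersion_inl : IsClosedImmersion (coprod.inl : A ⟶ A ⨿ B) :=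
  IsClosedImmersion.of_isPreimmersion _ (by
    rw [(isCompl_range_inl_inr A B).eq_compl]
    exact ((coprod.inr : B ⟶ A ⨿ B).isOpenEmbedding.isOpen_range).isClosed_compl)

theorem isClosedImmersion_inr : IsClosedImmersion (coprod.inr : B ⟶ A ⨿ B) :=
  IsClosedImmersion.of_isPreimmersion _ (by
    rw [← (isCompl_range_inl_inr A B).compl_eq]
    exact ((coprod.inl : A ⟶ A ⨿ B).isOpenEmbedding.isOpen_range).isClosed_compl)

theorem mem_range_inl_or_inr (x : (A ⨿ B : Scheme.{u})) :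
    x ∈ Set.range (coprod.inl : A ⟶ A ⨿ B) ∨ x ∈ Set.range (coprod.inr : B ⟶ A ⨿ B) := by
  by_cases h : x ∈ Set.range (coprod.inl : A ⟶ A ⨿ B)
  · exact Or.inl h
  · exact Or.inr ((isCompl_range_inl_inr A B).compl_eq ▸ h)

theorem compactSpace_coprod [CompactSpace A] [CompactSpace B] : CompactSpace (A ⨿ B : Scheme.{u}) :=
  (coprodMk A B).compactSpace

theorem quasiSeparatedSpace_coprod [QuasiSeparatedSpace A] [QuasiSeparatedSpace B] :
    QuasiSeparatedSpace (A ⨿ B : Scheme.{u}) := ⟨fun U V hU hUc hV hVc => by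
  haveI := isClosedImmersion_inl (A := A) (B := B)
  haveI := isClosedImmersion_inr (A := A) (B := B)
  let l : A ⟶ A ⨿ B := coprod.inl
  let r : B ⟶ A ⨿ B := coprod.inr
  have e : U ∩ V = l '' (l ⁻¹' U ∩ l ⁻¹' V) ∪ r '' (r ⁻¹' U ∩ r ⁻¹' V) := by
    ext x
    constructor
    · rintro ⟨h₁, h₂⟩
      rcases mem_range_inl_or_inr x with ⟨a, rfl⟩ | ⟨b, rfl⟩
      · exact Or.inl ⟨a, ⟨h₁, h₂⟩, rfl⟩
      · exact Or.inr ⟨b, ⟨h₁, h₂⟩, rfl⟩
    · rintro (⟨a, ⟨h₁, h₂⟩, rfl⟩ | ⟨b, ⟨h₁, h₂⟩, rfl⟩) <;> exact ⟨h₁, h₂⟩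
  rw [e]
  refine IsCompact.union (IsCompact.image ?_ l.continuous) (IsCompact.image ?_ r.continuous)
  · exact QuasiSeparatedSpace.inter_isCompact _ _ (hU.preimage l.continuous) (l.isClosedEmbedding.isCompact_preimage hUc)
      (hV.preimage l.continuous) (l.isClosedEmbedding.isCompact_preimage hVc)
  · exact QuasiSeparatedSpace.inter_isCompact _ _ (hU.preimage r.continuous) (r.isClosedEmbedding.isCompact_preimage hUc)
      (hV.preimage r.continuous) (r.isClosedEmbedding.isCompact_preimage hVc)⟩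

/-- An idempotent from one component. -/
theorem exists_idem_of_component {P EV T Q : Scheme.{u}} {fE : P ⟶ EV} {σ : T ⟶ EV} [IsOpenImmersion σ]
    [IsClosedImmersion σ] {m : Q ⟶ P} {b : Q ⟶ T} (sq : IsPullback m b fE σ)
    (h : ∀ p, ∃ d : Γ(Q, ⊤), d * d = d ∧ p ∈ Q.basicOpen d ∧ Mono ((Q.basicOpen d).ι ≫ b))
    (p : P) (hp : fE p ∈ Set.range σ) :
    ∃ d : Γ(P, ⊤), d * d = d ∧ p ∈ P.basicOpen d ∧ Mono ((P.basicOpen d).ι ≫ fE) := by
  haveI : IsOpenImmersion m := MorphismProperty.of_isPullback sq.flip ‹IsOpenImmersion σ›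
  haveI : IsClosedImmersion m := MorphismProperty.of_isPullback sq.flip ‹IsClosedImmersion σ›
  obtain ⟨t, ht⟩ := hp
  obtain ⟨q, hq, -⟩ := Scheme.exists_preimage_of_isPullback sq p t ht.symm
  obtain ⟨d', hd', hqd, hmono⟩ := h q
  let l : (Q.basicOpen d' : Scheme.{u}) ⟶ P := (Q.basicOpen d').ι ≫ m
  have hcl : IsClosed (Set.range l) := by
    have hr : Set.range l = m '' (Q.basicOpen (1 - d') : Set Q)ᶜ := by
      rw [show (Set.range l) = m '' Set.range (Q.basicOpen d').ι from by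
        rw [← Set.range_comp]; rfl, Scheme.Opens.range_ι]
      congr 1
      ext x
      constructor
      · intro hx hx'
        have h0 : x ∈ Q.basicOpen (d' * (1 - d')) := by rw [Scheme.basicOpen_mul]; exact ⟨hx, hx'⟩
        rw [mul_sub, mul_one, hd', sub_self, Scheme.basicOpen_zero] at h0
        exact h0
      · intro hx
        rcases IsLocalRing.isUnit_or_isUnit_of_add_one (add_sub_cancel (Q.presheaf.Γgerm x d') 1) with h | h
        · exact (Scheme.mem_basicOpen_top _ _ _).2 h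
        · exact absurd ((Scheme.mem_basicOpen_top _ _ _).2 (by rwa [map_sub, map_one])) hx
    rw [hr]
    exact m.isClosedEmbedding.isClosedMap _ (Q.basicOpen (1 - d')).isOpen.isClosed_compl
  obtain ⟨d, hd, hdK⟩ := IntCover.exists_idempotent l.opensRange hcl
  refine ⟨d, hd, hdK ▸ ⟨⟨q, hqd⟩, hq⟩, ?_⟩
  rw [hdK, ← Scheme.Hom.isoOpensRange_inv_comp l, Category.assoc]
  haveI : Mono (l ≫ fE) := by
    rw [show l ≫ fE = ((Q.basicOpen d').ι ≫ b) ≫ σ from by simp only [l, Category.assoc, sq.w]]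
    infer_instance
  infer_instance

variable {S : Scheme.{u}}

/-- Any two maps out of an empty scheme agree. -/
theorem hom_ext_of_isEmpty {F : Sp S} {T : Over S} [IsEmpty T.left] (a b : (yon S).obj T ⟶ F) : a = b :=
  hom_ext_cover (U := fun e : PEmpty.{u+1} => e.elim) (fun e => e.elim) (fun t => (IsEmpty.false t).elim)
    fun e => e.elim

/-- Maps glue over a coproduct. -/
theorem exists_desc_coprod {F : Sp S} {E A' B' : Over S} {σ₁ : A' ⟶ E} {σ₂ : B' ⟶ E} [IsOpenImmersion σ₁.left]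
    [IsOpenImmersion σ₂.left] (hd : Disjoint (Set.range σ₁.left) (Set.range σ₂.left))
    (hc : Set.range σ₁.left ∪ Set.range σ₂.left = Set.univ) (x₁ : (yon S).obj A' ⟶ F) (x₂ : (yon S).obj B' ⟶ F) :
    ∃ q : (yon S).obj E ⟶ F, (yon S).map σ₁ ≫ q = x₁ ∧ (yon S).map σ₂ ≫ q = x₂ := by
  haveI : Mono σ₁ := by
    haveI : Mono ((Over.forget S).map σ₁) := inferInstanceAs (Mono σ₁.left)
    exact (Over.forget S).mono_of_mono_map this
  haveI : Mono σ₂ := by
    haveI : Mono ((Over.forget S).map σ₂) := inferInstanceAs (Mono σ₂.left)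
    exact (Over.forget S).mono_of_mono_map this
  let U : ULift.{u} Bool → Over S := fun i => if i.down then A' else B'
  let g : ∀ i, U i ⟶ E := fun i => match i with
    | ⟨true⟩ => σ₁
    | ⟨false⟩ => σ₂
  let x : ∀ i, (yon S).obj (U i) ⟶ F := fun i => match i with
    | ⟨true⟩ => x₁
    | ⟨false⟩ => x₂
  haveI : ∀ i, IsOpenImmersion (g i).left := by
    rintro ⟨⟨⟩⟩
    · exact ‹IsOpenImmersion σ₂.left›
    · exact ‹IsOpenImmersion σ₁.left›
  have hs : ∀ t : ↥E.left, ∃ i u, (g i).left u = t := fun t => by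
    rcases (hc.ge (Set.mem_univ t) : t ∈ _ ∪ _) with ⟨u, hu⟩ | ⟨u, hu⟩
    · exact ⟨⟨true⟩, u, hu⟩
    · exact ⟨⟨false⟩, u, hu⟩
  obtain ⟨q, hq, -⟩ := existsUnique_glue g hs x (fun W i j a b w => by
    have hempty : ∀ (a : W ⟶ A') (b : W ⟶ B'), a ≫ σ₁ = b ≫ σ₂ → IsEmpty W.left := fun a b w => ⟨fun t =>
      Set.disjoint_left.1 hd ⟨a.left t, rfl⟩ ⟨b.left t, by
        rw [← Scheme.Hom.comp_apply, ← Scheme.Hom.comp_apply, ← Over.comp_left, ← Over.comp_left, w]⟩⟩
    rcases i with ⟨⟨⟩⟩ <;> rcases j with ⟨⟨⟩⟩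
    · rw [(cancel_mono σ₂).1 w]
    · haveI := hempty b a w.symm
      exact hom_ext_of_isEmpty _ _
    · haveI := hempty a b w
      exact hom_ext_of_isEmpty _ _
    · rw [(cancel_mono σ₁).1 w])
  exact ⟨q, hq ⟨true⟩, hq ⟨false⟩⟩

end Groth.L23.Filtr88
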