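import Groth.Agent.L23.Filtr88.Stratum
import Groth.Agent.L09.Filtration.Main
import Groth.Agent.L23.ThickScheme

/-!
# A filtration by closed subspaces with finite covers by schemes
-/

universe u

open CategoryTheory CategoryTheory.Limits AlgebraicGeometry Opposite AlgSp TopologicalSpace

set_option backward.isDefEq.respectTransparency.types false
set_option backward.isDefEq.respectTransparency false
set_option linter.style.haveILetI false

namespace Groth.L23.Filtr88

open Groth.L09.Filtration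

variable {S : Scheme.{u}}

set_option maxHeartbeats 1600000 in
/-- A finite cover by a scheme of the closed subspace with at most `m + 1` lifts, finite etale over the stratum. -/
theorem exists_stratum [QuasiSeparatedSpace S] (X : Space S) (hqs : IsQuasiSeparatedSp X.obj) {U : Over S}
    [IsAffine U.left] {φ : (yon S).obj U ⟶ X.obj} (hφ : RepWith @Etale φ) (hφs : RepWith @Surjective φ)
    (D : ∀ m, Tuples φ m) (m : ℕ) (Z : Space S) (z : Z ⟶ X) (hz : RepWith @IsClosedImmersion z.hom)
    (hzr : Set.range (Points.map z.hom) = (level φ D (m + 1))ᶜ) :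
    ∃ (Y : Over S) (g : (yon S).obj Y ⟶ Z.obj), IsFiniteMor g ∧ IsSurjectiveMor g ∧
      IsFinitePresentationMor g ∧
      ∀ (W : Space S) (j : W ⟶ Z), RepWith @IsOpenImmersion j.hom →
        Set.range (Points.map j.hom) = Points.map z.hom ⁻¹' level φ D m →
        ∀ (P : Sp S) (fst : P ⟶ (yon S).obj Y) (snd : P ⟶ W.obj), IsPullback fst snd g j.hom →
          IsFiniteMor snd ∧ IsEtaleMor snd := by
  haveI hzm : Mono z.hom := mono_of_repWith (fun _ _ f (_ : IsClosedImmersion f) => inferInstanceAs (Mono f)) hz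
  have hqsZ : IsQuasiSeparatedSp Z.obj :=
    RelSpec.qsSp_of_affine hqs (repWith_mono (fun f (_ : IsClosedImmersion f) => inferInstanceAs (IsAffineHom f)) hz)
  obtain ⟨UZ, ι, φZ, sqU⟩ : ∃ (UZ : Over S) (ι : UZ ⟶ U) (φZ : (yon S).obj UZ ⟶ Z.obj),
      IsPullback ((yon S).map ι) φZ φ z.hom := by
    exact ⟨_, _, _, (hz.1.isPullback φ).flip⟩
  haveI : IsClosedImmersion ι.left := repWith_prop hz sqU.flip
  haveI : IsAffine UZ.left := isAffine_of_isAffineHom ι.left
  have hφZ : RepWith @Etale φZ := repWith_of_isPullback sqU hφ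
  have hφZs : RepWith @Surjective φZ := repWith_of_isPullback sqU hφs
  haveI : CompactSpace (Points Z.obj) := (surjective_ofPt hφZs).compactSpace (Points.continuous_ofPt φZ)
  have hqcZ : IsQuasiCompactSp Z.obj := qcSp_of_compactSpace Z.property ‹_›
  obtain ⟨M, τ, μZ, sqD⟩ : ∃ (M : Over S) (τ : M ⟶ (D m).W) (μZ : (yon S).obj M ⟶ Z.obj),
      IsPullback ((yon S).map τ) μZ ((yon S).map ((D m).π 0) ≫ φ) z.hom := by
    exact ⟨_, _, _, (hz.1.isPullback ((yon S).map ((D m).π 0) ≫ φ)).flip⟩
  haveI : IsClosedImmersion τ.left := repWith_prop hz sqD.flip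
  haveI : CompactSpace (D m).W.left := (D m).compact (repWith_quasiCompact X.property hqs φ hφ.1)
  haveI : CompactSpace M.left := QuasiCompact.compactSpace_of_compactSpace τ.left
  haveI : QuasiSeparatedSpace (D m).W.left := by
    haveI := (D m).sep
    exact quasiSeparatedSpace_of_quasiSeparated ((D m).π 0).left
  haveI : QuasiSeparatedSpace M.left := quasiSeparatedSpace_of_quasiSeparated τ.left
  have hμZe : RepWith @Etale μZ := repWith_of_isPullback sqD (repWith_etale_proj hφ (D m))
  have hμz : μZ ≫ z.hom = (yon S).map τ ≫ (yon S).map ((D m).π 0) ≫ φ := sqD.w.symm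
  have hrange : Set.range (Points.ofPt μZ) = Points.map z.hom ⁻¹' level φ D m := by
    ext x
    constructor
    · rintro ⟨v, rfl⟩
      refine ⟨τ.left v, ?_⟩
      rw [← ofPt_comp, ← hμz, Points.map_ofPt]
    · rintro ⟨w, hw⟩
      obtain ⟨p, -, hp⟩ := exists_of_isPullback sqD (Points.ofScheme _ w) x
        (by rw [← Points.ofPt_eq_map_ofScheme]; exact hw)
      obtain ⟨v, rfl⟩ := (Points.schemeEquiv M).surjective p
      exact ⟨v, (Points.ofPt_eq_map_ofScheme μZ v).trans hp⟩
  have hexact : Exact (D m) τ := fun {K} _ _ {w} x h => by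
    have h1 := (mem_level_iff hφ D (m + 1) ((yon S).map (x ≫ τ ≫ (D m).π 0) ≫ φ) (IsLocalRing.closedPoint K)).2 h
    refine hzr.le ⟨Points.ofPt ((yon S).map x ≫ μZ) (IsLocalRing.closedPoint K), ?_⟩ h1
    rw [Points.map_ofPt, Category.assoc, hμz]
    simp only [Functor.map_comp, Category.assoc]
  -- the stratum
  let O : Opens (Points Z.obj) :=
    ⟨Points.map z.hom ⁻¹' level φ D m, (isOpen_level hφ D m).preimage (Points.continuous_map _)⟩
  let W₀ : Space S := ⟨openSub O, isAlgSpace_openSub O Z.property⟩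
  let j₀ : W₀ ⟶ Z := ObjectProperty.homMk (openSubι O)
  have hj₀ : RepWith @IsOpenImmersion j₀.hom := repWith_openSubι O
  have hj₀r : Set.range (Points.map j₀.hom) = Points.map z.hom ⁻¹' level φ D m := range_openSubι O
  haveI : Mono j₀.hom := mono_of_repWith_openImmersion hj₀
  obtain ⟨μ, hμ⟩ := (exists_factor_iff hj₀ μZ).2 (by rw [range_map_yon, hrange, hj₀r])
  have hμe : RepWith @Etale μ := repWith_of_comp_mono (m := j₀.hom) (hμ.symm ▸ hμZe)
  have hμsurj : Function.Surjective (Points.map μ) := fun y => by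
    obtain ⟨v, hv⟩ := hrange.ge (hj₀r.le ⟨y, rfl⟩)
    refine ⟨Points.ofScheme M v, QFL.map_injective_of_mono j₀.hom ?_⟩
    rw [← Points.map_comp, hμ, ← Points.ofPt_eq_map_ofScheme, hv]
  have hμs : RepWith @Surjective μ := repWith_surjective_of_map hμe.1 hμsurj
  have hW₀qc : IsQuasiCompactSp W₀.obj := qcSp_of_surjective W₀.property μ hμsurj isQuasiCompactSp_of_compactSpace
  have hμf : RepWith @IsFinite μ := isFinite_of_exact hφ hexact sqD hμ hμe hμs
  -- geometric points over the rest
  let C : Closeds UZ.left := ⟨(Points.ofPt φZ ⁻¹' (O : Set (Points Z.obj)))ᶜ,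
    (O.isOpen.preimage (Points.continuous_ofPt φZ)).isClosed_compl⟩
  let I := Scheme.IdealSheafData.vanishingIdeal C
  haveI : IsAffine I.subscheme := isAffine_of_isAffineHom I.subschemeι
  have hI : Set.range I.subschemeι = (C : Set UZ.left) := by
    rw [I.range_subschemeι, Scheme.IdealSheafData.coe_support_vanishingIdeal]
  obtain ⟨E, s, hE, hs⟩ := IntCover.exists_absClosed_cover I.subscheme
  let B : Over S := Over.mk (s ≫ I.subschemeι ≫ UZ.hom)
  let eB : B ⟶ UZ := Over.homMk (s ≫ I.subschemeι) (Category.assoc _ _ _)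
  haveI : IsAffine B.left := inferInstanceAs (IsAffine (Spec E))
  haveI : CompactSpace B.left := inferInstance
  haveI : QuasiSeparatedSpace B.left := inferInstance
  let EV : Over S := Over.mk (coprod.desc M.hom B.hom)
  let σ₁ : M ⟶ EV := Over.homMk coprod.inl (coprod.inl_desc _ _)
  let σ₂ : B ⟶ EV := Over.homMk coprod.inr (coprod.inr_desc _ _)
  haveI : CompactSpace EV.left := compactSpace_coprod (A := M.left) (B := B.left)
  haveI : QuasiSeparatedSpace EV.left := quasiSeparatedSpace_coprod (A := M.left) (B := B.left)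
  haveI : IsOpenImmersion σ₁.left := inferInstanceAs (IsOpenImmersion (coprod.inl : M.left ⟶ M.left ⨿ B.left))
  haveI : IsOpenImmersion σ₂.left := inferInstanceAs (IsOpenImmersion (coprod.inr : B.left ⟶ M.left ⨿ B.left))
  haveI : IsClosedImmersion σ₁.left := isClosedImmersion_inl
  haveI : IsClosedImmersion σ₂.left := isClosedImmersion_inr
  have hcomp := isCompl_range_inl_inr M.left B.left
  have hc : Set.range σ₁.left ∪ Set.range σ₂.left = Set.univ := hcomp.sup_eq_top
  obtain ⟨q, hq₁, hq₂⟩ := exists_desc_coprod (σ₁ := σ₁) (σ₂ := σ₂) hcomp.disjoint hc μZ ((yon S).map eB ≫ φZ)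
  have hB : ∀ b : B.left, Points.ofPt ((yon S).map eB ≫ φZ) b ∉ O := fun b h => by
    rw [ofPt_comp] at h
    exact hI.le ⟨s b, rfl⟩ h
  obtain ⟨G, g, h, hloc, hGc⟩ := IntCover.exists_normalization_scheme Z.property hqsZ q
    (⟨UZ, φZ, hφZ⟩ : Norm.Chart Z.obj) hφZs
    fun A fE fV sA p => exists_idem hφ hexact hqsZ sqD sqU hφZ hE (𝟙 _) hc hq₁ sA p
  have hg : RepWith @IsIntegralHom g := isIntegralMor_iff.1 hloc.integral
  have hgs : RepWith @Surjective g := repWith_surjective_of_map hg.1 fun x => by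
    obtain ⟨e, he⟩ : ∃ e : EV.left, Points.ofPt q e = x := by
      by_cases hx : x ∈ O
      · obtain ⟨v, hv⟩ := hrange.ge hx
        exact ⟨σ₁.left v, by rw [← ofPt_comp, hq₁, hv]⟩
      · obtain ⟨v, rfl⟩ := surjective_ofPt hφZs x
        obtain ⟨i, rfl⟩ := hI.ge (show v ∈ (C : Set UZ.left) from hx)
        obtain ⟨b, rfl⟩ := hs.surj i
        refine ⟨σ₂.left b, ?_⟩
        rw [← ofPt_comp, hq₂, ofPt_comp]
        rfl
    refine ⟨Points.map h (Points.ofScheme EV e), ?_⟩
    rw [← Points.map_comp, hloc.fac, ← Points.ofPt_eq_map_ofScheme, he]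
  have hdis : ∀ v : ↥EV.left, Points.ofPt q v ∈ Set.range (Points.map j₀.hom) → v ∈ Set.range σ₁.left := by
    intro v hv
    rcases (hc.ge (Set.mem_univ v) : v ∈ _ ∪ _) with hv' | ⟨b, rfl⟩
    · exact hv'
    · refine absurd (hj₀r.le hv) ?_
      rw [← ofPt_comp, hq₂]
      exact hB b
  obtain ⟨hfin, het⟩ := finiteEtale_normalization hqsZ hloc j₀ hj₀ hW₀qc (hμ.trans hq₁.symm) hμf hμe hdis
    (IsPullback.of_hasPullback g j₀.hom)
  obtain ⟨Y', g', h₁, h₂, h₃, h₄⟩ := exists_fp_stage Z hqcZ hqsZ hφZ hg hgs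
    (fun y => by
      obtain ⟨V, k, hy, hk⟩ := hGc y
      exact ⟨V, k, hy, hk⟩) W₀ j₀ hj₀ hW₀qc hfin het
  refine ⟨Y', g', h₁, h₂, h₃, fun W j hj hjr P fst snd sP => ?_⟩
  obtain ⟨k, hk⟩ := (exists_factor_iff hj₀ j.hom).2 (by rw [hjr, hj₀r])
  have sq₀ := IsPullback.of_hasPullback g' j₀.hom
  obtain ⟨l, hl₁, hl₂⟩ := sq₀.exists_lift fst (snd ≫ k) (by rw [Category.assoc, hk]; exact sP.w)
  have sl : IsPullback l snd (pullback.snd g' j₀.hom) k :=
    IsPullback.of_right (by rw [hl₁, hk]; exact sP) hl₂ sq₀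
  obtain ⟨hf', he'⟩ := h₄ _ _ _ sq₀
  exact ⟨isFiniteMor_iff.2 (repWith_of_isPullback sl hf'),
    (isEtaleMor_iff_locP (isAlgSpace_of_isPullback Z.property.diag (IsAlgSpace.yon_obj Y') W.property sP)
      W.property snd).2 (locP_of_repWith etLocal_etale (repWith_of_isPullback sl he'))⟩

/-- The filtration. -/
theorem exists_filtration_covers [QuasiSeparatedSpace S] (X : Space S) (hqc : IsQuasiCompactSp X.obj)
    (hqs : IsQuasiSeparatedSp X.obj) :
    ∃ (t : ℕ) (Z : Fin (t + 1) → Space S) (z : ∀ k, Z k ⟶ X),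
      (∀ k, RepWith @IsClosedImmersion (z k).hom ∧ IsFinitePresentationMor (z k).hom) ∧
      (∀ k l : Fin (t + 1), k ≤ l →
        Set.range (Points.map (z l).hom) ⊆ Set.range (Points.map (z k).hom)) ∧
      IsThickMor (z 0).hom ∧ IsEmpty (Points (Z (Fin.last t)).obj) ∧
      ∀ k : Fin t, ∃ (Y : Over S) (g : (yon S).obj Y ⟶ (Z k.castSucc).obj),
        IsFiniteMor g ∧ IsSurjectiveMor g ∧ IsFinitePresentationMor g ∧
        ∀ (W : Space S) (j : W ⟶ Z k.castSucc), RepWith @IsOpenImmersion j.hom →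
          Set.range (Points.map (j ≫ z k.castSucc).hom) =
            Set.range (Points.map (z k.castSucc).hom) \ Set.range (Points.map (z k.succ).hom) →
          ∀ (P : Sp S) (fst : P ⟶ (yon S).obj Y) (snd : P ⟶ W.obj), IsPullback fst snd g j.hom →
            IsFiniteMor snd ∧ IsEtaleMor snd := by
  obtain ⟨U, φ, hU, hφ, hφs⟩ := Groth.L09.Filtration.exists_affine_atlas hqc
  haveI := hU
  have hφq : RepWith @QuasiCompact φ := repWith_quasiCompact X.property hqs φ hφ.1
  obtain ⟨R, a, b, sq⟩ := exists_isPullback_of_representable hφ.1 φ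
  haveI : Etale b.left := repWith_prop hφ sq
  haveI : R.left.IsSeparated := isSeparated_rel sq
  haveI : IsSeparated (b.left ≫ terminal.from U.left) := by rw [terminal.comp_from]; infer_instance
  haveI : IsSeparated b.left := IsSeparated.of_comp b.left (terminal.from U.left)
  let D : ∀ m, Tuples φ m := fun m => Classical.choice (exists_tuples sq m)
  obtain ⟨N, hN⟩ := exists_level_eq_empty X.property hφ hφq D
  have hclosed : ∀ m, IsClosed (level φ D m)ᶜ := fun m => (isOpen_level hφ D m).isClosed_compl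
  have hcompact : ∀ m, IsCompact (level φ D m)ᶜᶜ := fun m => by
    rw [compl_compl]
    haveI := (D m).compact hφq
    exact isCompact_range (Points.continuous_ofPt _)
  choose Z z hz hzf hzr using fun k : Fin (N + 1) =>
    exists_fp_closedSub X hqc hqs (hclosed (N - k)) (hcompact (N - k))
  refine ⟨N, Z, z, fun k => ⟨hz k, hzf k⟩, fun k l hkl => ?_, ?_, ?_, fun k => ?_⟩
  · rw [hzr, hzr]
    have : (k : ℕ) ≤ l := hkl
    exact Set.compl_subset_compl.2 (level_antitone hφ D (by omega))
  · refine isThickMor_of_surjective (hz 0) fun x => ?_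
    have := hzr 0
    rw [Fin.val_zero, Nat.sub_zero, hN, Set.compl_empty] at this
    exact this.ge (Set.mem_univ x)
  · refine ⟨fun x => ?_⟩
    have := hzr (Fin.last N)
    rw [Fin.val_last, Nat.sub_self, level_zero hφ hφs D, Set.compl_univ] at this
    exact this.le ⟨x, rfl⟩
  · have hk : (k : ℕ) < N := k.2
    obtain ⟨Y, g, h₁, h₂, h₃, h₄⟩ := exists_stratum X hqs hφ hφs D (N - (k : ℕ) - 1) (Z k.castSucc) (z k.castSucc)
      (hz _) (by rw [hzr, Fin.val_castSucc, show N - (k : ℕ) - 1 + 1 = N - k by omega])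
    refine ⟨Y, g, h₁, h₂, h₃, fun W j hj hjr => h₄ W j hj ?_⟩
    haveI : Mono (z k.castSucc).hom :=
      mono_of_repWith (fun _ _ f (_ : IsClosedImmersion f) => inferInstanceAs (Mono f)) (hz _)
    have hsucc : Set.range (Points.map (z k.succ).hom) = (level φ D (N - (k : ℕ) - 1))ᶜ := by
      rw [hzr, Fin.val_succ, show N - ((k : ℕ) + 1) = N - k - 1 by omega]
    rw [hsucc] at hjr
    ext x
    constructor
    · rintro ⟨w, rfl⟩
      have := (hjr.le ⟨w, rfl⟩).2
      rw [Set.mem_compl_iff, not_not] at this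
      rw [Set.mem_preimage, ← Points.map_comp]
      exact this
    · intro hx
      obtain ⟨w, hw⟩ := hjr.ge ⟨⟨x, rfl⟩, fun h => h hx⟩
      refine ⟨w, QFL.map_injective_of_mono (z k.castSucc).hom ?_⟩
      rw [← Points.map_comp]
      exact hw

end Groth.L23.Filtr88
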