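import Groth.Agent.L23.Filtr88.ClosedSub
import Groth.Agent.L09.Filtration.Strata
import Groth.Agent.L27.FEtGal.SplitFinite

/-!
# The scheme of tuples of lifts splits the chart over a stratum
-/

universe u

open CategoryTheory CategoryTheory.Limits AlgebraicGeometry Opposite AlgSp TopologicalSpace

set_option backward.isDefEq.respectTransparency.types false
set_option backward.isDefEq.respectTransparency false
set_option linter.style.haveILetI false

namespace Groth.L23.Filtr88

open Groth.L09.Filtration

variable {S : Scheme.{u}} {X : Sp S} {U : Over S} {φ : (yon S).obj U ⟶ X}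

/-- Pullbacks of a separated scheme are separated over the other factor. -/
theorem isSeparated_of_pullback {A V P : Over S} [IsSeparated V.hom] {ψ : (yon S).obj A ⟶ X}
    {v : (yon S).obj V ⟶ X} {a : P ⟶ A} {b : P ⟶ V}
    (sq : IsPullback ((yon S).map a) ((yon S).map b) ψ v) : IsSeparated a.left := by
  let l : P ⟶ A ⨯ V := prod.lift a b
  haveI : Mono l := ⟨fun g h e => (yon S).map_injective (sq.hom_ext
    (by rw [← Functor.map_comp, ← Functor.map_comp]
        exact congrArg _ (by simpa [l] using e =≫ prod.fst))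
    (by rw [← Functor.map_comp, ← Functor.map_comp]
        exact congrArg _ (by simpa [l] using e =≫ prod.snd)))⟩
  haveI : Mono l.left := inferInstanceAs (Mono ((Over.forget S).map l))
  have sq' := (IsPullback.of_is_product (limit.isLimit (pair A V))
    (terminalIsTerminal : IsTerminal (⊤_ Over S))).map (Over.forget S)
  haveI : IsSeparated (terminal.from V).left := by
    haveI : IsSeparated ((terminal.from V).left ≫ (⊤_ Over S).hom) := by rw [Over.w]; infer_instance
    exact IsSeparated.of_comp _ (⊤_ Over S).hom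
  haveI : IsSeparated (prod.fst : A ⨯ V ⟶ A).left :=
    MorphismProperty.of_isPullback sq'.flip ‹IsSeparated (terminal.from V).left›
  rw [show a = l ≫ prod.fst from (prod.lift_fst _ _).symm, Over.comp_left]
  infer_instance

/-- A geometric point at every point. -/
theorem exists_geometric_point (M : Over S) (p : M.left) :
    ∃ (K : Type u) (_ : Field K) (_ : IsAlgClosed K) (w : Spec (CommRingCat.of K) ⟶ S) (x : Over.mk w ⟶ M)
      (z : ↥(Spec (CommRingCat.of K))), x.left z = p := by
  let K := AlgebraicClosure (M.left.residueField p)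
  let x : Spec (CommRingCat.of K) ⟶ M.left :=
    Spec.map (CommRingCat.ofHom (algebraMap (M.left.residueField p) K)) ≫ M.left.fromSpecResidueField p
  exact ⟨K, inferInstance, inferInstance, x ≫ M.hom, Over.homMk x rfl, IsLocalRing.closedPoint K,
    M.left.fromSpecResidueField_apply p _⟩

/-- No point of `M` has more lifts than the tuple records. -/
def Exact {m : ℕ} (D : Tuples φ m) {M : Over S} (τ : M ⟶ D.W) : Prop :=
  ∀ {K : Type u} [Field K] [IsAlgClosed K] {w : Spec (CommRingCat.of K) ⟶ S} (x : Over.mk w ⟶ M),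
    ¬ ∃ a : Fin (m + 1 + 1) → Lift φ ((yon S).map (x ≫ τ ≫ D.π 0) ≫ φ), Function.Injective a

variable {m : ℕ} {D : Tuples φ m} {M : Over S} {τ : M ⟶ D.W}

theorem exists_eq_of_exact (h : Exact D τ) {K : Type u} [Field K] [IsAlgClosed K]
    {w : Spec (CommRingCat.of K) ⟶ S} (x : Over.mk w ⟶ M) (y : Over.mk w ⟶ U)
    (hy : (yon S).map y ≫ φ = (yon S).map (x ≫ τ ≫ D.π 0) ≫ φ) : ∃ i, y = x ≫ τ ≫ D.π i := by
  by_contra hne
  push Not at hne
  let q : (yon S).obj (Over.mk w) ⟶ X := (yon S).map (x ≫ τ ≫ D.π 0) ≫ φ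
  let a : Fin (m + 1) → Lift φ q := fun i => ⟨x ≫ τ ≫ D.π i, by
    show _ = (yon S).map (x ≫ τ ≫ D.π 0) ≫ φ
    simp only [Functor.map_comp, Category.assoc]
    rw [D.hπ i 0]⟩
  refine h x ⟨Fin.cons ⟨y, hy⟩ a, Fin.cons_injective_iff.2 ⟨?_, fun i j e => ?_⟩⟩
  · rintro ⟨i, hi⟩
    exact hne i (congrArg Subtype.val hi).symm
  · have e' := congrArg Subtype.val e
    refine injective_comp_tuples D (x ≫ τ) ?_
    simp only [a] at e'
    simpa only [Category.assoc] using e'

/-- The chart splits over a scheme of exact tuples. -/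
theorem exists_clopen_tuples [IsAffine U.left] (hφ : RepWith @Etale φ) (h : Exact D τ) {P : Over S}
    {a : P ⟶ U} {b : P ⟶ M}
    (sq : IsPullback ((yon S).map a) ((yon S).map b) φ ((yon S).map (τ ≫ D.π 0) ≫ φ)) (p : P.left) :
    ∃ d : Γ(P.left, ⊤), d * d = d ∧ p ∈ P.left.basicOpen d ∧ Mono ((P.left.basicOpen d).ι ≫ b.left) := by
  haveI : Etale b.left := repWith_prop hφ sq
  haveI : IsSeparated U.hom := IntCover.isSeparated_of_isAffine_source
  haveI : IsSeparated b.left := isSeparated_of_pullback sq.flip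
  obtain ⟨K, _, _, w, x, z, rfl⟩ := exists_geometric_point P p
  have hx : (yon S).map (x ≫ a) ≫ φ = (yon S).map ((x ≫ b) ≫ τ ≫ D.π 0) ≫ φ := by
    simp only [Functor.map_comp, Category.assoc] at *
    rw [sq.w]
  obtain ⟨i, hi⟩ := exists_eq_of_exact h (x ≫ b) (x ≫ a) hx
  obtain ⟨l, hla, hlb⟩ := exists_lift_yon sq (τ ≫ D.π i) (𝟙 M) (by
    rw [(yon S).map_id, Category.id_comp, Functor.map_comp, Functor.map_comp, Category.assoc, Category.assoc,
      D.hπ i 0])
  have hxl : x = (x ≫ b) ≫ l := (yon S).map_injective (sq.hom_ext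
    (by rw [← Functor.map_comp, ← Functor.map_comp, hi, Category.assoc (x ≫ b), hla])
    (by rw [← Functor.map_comp, ← Functor.map_comp, Category.assoc (x ≫ b), hlb, Category.comp_id]))
  have hl : l.left ≫ b.left = 𝟙 M.left := by rw [← Over.comp_left, hlb]; rfl
  haveI : IsClosedImmersion l.left := by
    haveI : IsClosedImmersion (l.left ≫ b.left) := by rw [hl]; infer_instance
    exact IsClosedImmersion.of_comp l.left b.left
  haveI : Etale l.left := by
    haveI : Etale (l.left ≫ b.left) := by rw [hl]; infer_instance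
    exact Etale.of_comp l.left b.left
  haveI : IsOpenImmersion l.left := IsOpenImmersion.of_flat_of_mono l.left
  obtain ⟨d, hd, hdK⟩ := IntCover.exists_idempotent l.left.opensRange l.left.isClosedEmbedding.isClosed_range
  refine ⟨d, hd, hdK ▸ ⟨(x ≫ b).left z, ?_⟩, ?_⟩
  · exact (congrArg (fun f : Over.mk w ⟶ P => f.left z) hxl).symm
  · rw [hdK, ← Scheme.Hom.isoOpensRange_inv_comp l.left, Category.assoc, hl]
    infer_instance

/-- The tuples are finite over a scheme of exact tuples. -/
theorem isFinite_tuples [IsAffine U.left] (hφ : RepWith @Etale φ) (h : Exact D τ) {R : Over S}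
    {r : R ⟶ D.W} {b : R ⟶ M}
    (sq : IsPullback ((yon S).map r) ((yon S).map b) ((yon S).map (D.π 0) ≫ φ)
      ((yon S).map (τ ≫ D.π 0) ≫ φ)) : IsFinite b.left := by
  classical
  haveI : Etale b.left := repWith_prop (repWith_etale_proj hφ D) sq
  haveI : IsSeparated U.hom := IntCover.isSeparated_of_isAffine_source
  haveI : IsSeparated (D.π 0).left := D.sep
  haveI : IsSeparated D.W.hom := by rw [← Over.w (D.π 0)]; infer_instance
  haveI : IsSeparated b.left := isSeparated_of_pullback sq.flip
  have hsec : ∀ σ : Equiv.Perm (Fin (m + 1)), ∃ s : M ⟶ R, s ≫ b = 𝟙 M ∧ ∀ i, s ≫ r ≫ D.π i = τ ≫ D.π (σ i) := by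
    intro σ
    obtain ⟨l, hl⟩ := D.hlift (fun i => τ ≫ D.π (σ i))
      (fun i j => by rw [Functor.map_comp, Functor.map_comp, Category.assoc, Category.assoc, D.hπ (σ i) (σ j)])
      fun i j hij z e => by
        refine D.distinct _ _ (σ.injective.ne hij) _ (cancel_point
          (M.left.fromSpecResidueField z ≫ τ.left) _ _ ?_ (IsLocalRing.closedPoint _))
        simpa only [Over.comp_left, Category.assoc] using e
    obtain ⟨s, hsr, hsb⟩ := exists_lift_yon sq l (𝟙 M) (by
      rw [(yon S).map_id, Category.id_comp, ← Functor.map_comp_assoc, hl, Functor.map_comp, Functor.map_comp,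
        Category.assoc, Category.assoc, D.hπ (σ 0) 0])
    exact ⟨s, hsb, fun i => by rw [reassoc_of% hsr, hl]⟩
  choose s hsb hsr using hsec
  let n := Fintype.card (Equiv.Perm (Fin (m + 1)))
  let eσ := (Fintype.equivFin (Equiv.Perm (Fin (m + 1)))).symm
  let F : (∐ fun _ : Fin n => M.left) ⟶ R.left := Sigma.desc fun k => (s (eσ k)).left
  have hF : F ≫ b.left = Sigma.desc fun _ : Fin n => 𝟙 M.left := by
    refine Sigma.hom_ext _ _ fun k => ?_
    rw [Sigma.ι_desc_assoc, Sigma.ι_desc, ← Over.comp_left, hsb]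
    rfl
  haveI : Surjective F := ⟨fun p => by
    obtain ⟨K, _, _, w, x, z, rfl⟩ := exists_geometric_point R p
    have hy : ∀ i, ∃ j, x ≫ r ≫ D.π i = (x ≫ b) ≫ τ ≫ D.π j := fun i => by
      refine exists_eq_of_exact h (x ≫ b) _ ?_
      have := congrArg ((yon S).map x ≫ ·) sq.w
      simp only [Functor.map_comp, Category.assoc] at this ⊢
      rw [D.hπ i 0, this]
    choose j hj using hy
    have hji : Function.Injective j := fun i i' e => injective_comp_tuples D (x ≫ r) (by
      show (x ≫ r) ≫ D.π i = (x ≫ r) ≫ D.π i'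
      rw [Category.assoc, Category.assoc, hj, hj, e])
    let σ : Equiv.Perm (Fin (m + 1)) := Equiv.ofBijective j (Finite.injective_iff_bijective.1 hji)
    have hx : x = (x ≫ b) ≫ s σ := by
      refine (yon S).map_injective (sq.hom_ext ?_ ?_)
      · rw [← Functor.map_comp, ← Functor.map_comp]
        refine congrArg _ (D.ext _ _ fun i => ?_)
        simp only [Category.assoc]
        rw [hsr σ i]
        exact (hj i).trans (by simp only [Category.assoc]; rfl)
      · rw [← Functor.map_comp, ← Functor.map_comp, Category.assoc (x ≫ b), hsb, Category.comp_id]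
    refine ⟨Sigma.ι (fun _ : Fin n => M.left) (eσ.symm σ) ((x ≫ b).left z), ?_⟩
    rw [← Scheme.Hom.comp_apply, Sigma.ι_desc, Equiv.apply_symm_apply]
    exact (congrArg (fun f : Over.mk w ⟶ R => f.left z) hx).symm⟩
  haveI := Groth.L27.FEtGal.isFinite_foldId (Y := M.left) n
  haveI : UniversallyClosed b.left := by
    haveI : UniversallyClosed (F ≫ b.left) := by rw [hF]; infer_instance
    exact UniversallyClosed.of_comp_surjective F b.left
  haveI : IsProper b.left := {}
  exact IsFinite.of_isProper_of_locallyQuasiFinite b.left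

end Groth.L23.Filtr88
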