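import Groth.Agent.L23.Filtr88.Coprod
import Groth.Agent.L23.AffineMor
import Groth.Agent.L23.FieldLimit

/-!
# A finite cover of one stratum by a scheme
-/

universe u

open CategoryTheory CategoryTheory.Limits AlgebraicGeometry Opposite AlgSp TopologicalSpace

set_option backward.isDefEq.respectTransparency.types false
set_option backward.isDefEq.respectTransparency false
set_option linter.style.haveILetI false

namespace Groth.L23.Filtr88

open Groth.L09.Filtration

variable {S : Scheme.{u}}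

/-- A finitely presented stage of an integral cover that is finite etale over a quasi-compact open. -/
theorem exists_fp_stage [QuasiSeparatedSpace S] (X : Space S) (hqc : IsQuasiCompactSp X.obj)
    (hqs : IsQuasiSeparatedSp X.obj) {V : Over S} {p : (yon S).obj V ⟶ X.obj} (hpe : RepWith @Etale p)
    {Y : Over S} {g : (yon S).obj Y ⟶ X.obj} (hg : RepWith @IsIntegralHom g) (hgs : RepWith @Surjective g)
    (hgU : ∀ y : ↥Y.left, ∃ (W : Y.left.Opens) (c : openOver Y W ⟶ V), y ∈ W ∧
      (yon S).map c ≫ p = (yon S).map (openOverι Y W) ≫ g)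
    (U : Space S) (j : U ⟶ X) (hj : RepWith @IsOpenImmersion j.hom) (hUqc : IsQuasiCompactSp U.obj)
    (hfin : RepWith @IsFinite (pullback.snd g j.hom)) (het : RepWith @Etale (pullback.snd g j.hom)) :
    ∃ (Y' : Over S) (g' : (yon S).obj Y' ⟶ X.obj), IsFiniteMor g' ∧ IsSurjectiveMor g' ∧
      IsFinitePresentationMor g' ∧
      ∀ (P : Sp S) (fst : P ⟶ (yon S).obj Y') (snd : P ⟶ U.obj), IsPullback fst snd g' j.hom →
        RepWith @IsFinite snd ∧ RepWith @Etale snd := by
  have sq := IsPullback.of_hasPullback g j.hom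
  have hlfp : LocP @LocallyOfFinitePresentation (pullback.snd g j.hom) :=
    locP_mono (fun φ (_ : Etale φ) => inferInstanceAs (LocallyOfFinitePresentation φ))
      (locP_of_repWith etLocal_etale het)
  have hfp : IsFinitePresentationMor (pullback.snd g j.hom) :=
    ⟨hlfp, isQuasiCompactMor_of_repWith (repWith_mono (fun φ (_ : IsFinite φ) => inferInstanceAs (QuasiCompact φ)) hfin),
      RelSpec.isQuasiSeparatedMor_of_isFinite hfin⟩
  obtain ⟨I, _, _, _, D, t, c, hc, e, hD, haff, ht, htg, hiso⟩ :=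
    Groth.L23.ZMT.exists_limit_iso_over (X := (yon S).obj Y) (IsAlgSpace.yon_obj Y) (f := g)
      hg hqc hqs (V := U) (j := j.hom) hj hUqc sq (isFiniteMor_iff.2 hfin) hfp
  obtain ⟨i, Y', φ, h₁, h₂, h₃, -⟩ :=
    IntCover.exists_scheme_stage X hqc hqs hpe hg hgs hgU D t c hc e hD haff ht htg
  refine ⟨Y', φ.hom ≫ t.app i, h₁, h₂, h₃, fun P fst snd sP => ?_⟩
  have sPi : IsPullback (fst ≫ φ.hom) snd (t.app i) j.hom :=
    sP.of_iso (Iso.refl _) φ (Iso.refl _) (Iso.refl _) (by simp) (by simp) (by simp) (by simp)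
  obtain ⟨k, hk₁, hk₂⟩ := sPi.exists_lift (pullback.fst g j.hom ≫ e.inv ≫ c.π.app i) (pullback.snd g j.hom) (by
    rw [Category.assoc, Category.assoc, htg i]; exact pullback.condition)
  haveI : IsIso k := hiso i P (fst ≫ φ.hom) snd sPi k hk₁ hk₂
  have hsnd : snd = inv k ≫ pullback.snd g j.hom := by rw [← hk₂, IsIso.inv_hom_id_assoc]
  exact ⟨hsnd ▸ repWith_comp (repWith_of_isIso _) hfin, hsnd ▸ repWith_comp (repWith_of_isIso _) het⟩

variable {X : Sp S} {U : Over S} {φ : (yon S).obj U ⟶ X} {m : ℕ} {D : Tuples φ m} {M : Over S} {τ : M ⟶ D.W}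

/-- The scheme of exact tuples is finite over the stratum. -/
theorem isFinite_of_exact [IsAffine U.left] (hφ : RepWith @Etale φ) (h : Exact D τ) {Z : Sp S} {z : Z ⟶ X}
    {μZ : (yon S).obj M ⟶ Z} (sqD : IsPullback ((yon S).map τ) μZ ((yon S).map (D.π 0) ≫ φ) z)
    {W : Sp S} {j : W ⟶ Z} [Mono j] {μ : (yon S).obj M ⟶ W} (hμ : μ ≫ j = μZ) (hμe : RepWith @Etale μ)
    (hμs : RepWith @Surjective μ) : RepWith @IsFinite μ := by
  obtain ⟨P, p₁, p₂, sP⟩ := exists_isPullback_of_representable hμe.1 μ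
  have sP' : IsPullback ((yon S).map p₁) ((yon S).map p₂) μZ μZ :=
    IsPullback.mk' (by rw [← hμ, reassoc_of% sP.w]) (fun T a b h₁ h₂ => sP.hom_ext h₁ h₂)
      fun T a b e => sP.exists_lift a b ((cancel_mono j).1 (by rw [Category.assoc, Category.assoc, hμ]; exact e))
  have sq := sP'.paste_horiz sqD
  have hz : μZ ≫ z = (yon S).map (τ ≫ D.π 0) ≫ φ := by rw [← sqD.w, Functor.map_comp_assoc]
  rw [hz, ← Functor.map_comp] at sq
  haveI := isFinite_tuples hφ h sq
  exact repWith_of_etale_cover hμe.1 hμe hμs sP (repWith_map (show IsFinite p₂.left from ‹_›))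

/-- A clopen decomposition over both components of a cover. -/
theorem exists_idem [QuasiSeparatedSpace S] [IsAffine U.left] (hφ : RepWith @Etale φ) (h : Exact D τ)
    {Z : Sp S} (hqs : IsQuasiSeparatedSp Z) {z : Z ⟶ X} {μZ : (yon S).obj M ⟶ Z}
    (sqD : IsPullback ((yon S).map τ) μZ ((yon S).map (D.π 0) ≫ φ) z)
    {UZ : Over S} [IsAffine UZ.left] {ι : UZ ⟶ U} {φZ : (yon S).obj UZ ⟶ Z}
    (sqU : IsPullback ((yon S).map ι) φZ φ z) (hφZ : RepWith @Etale φZ)
    {E : CommRingCat.{u}} (hE : IntCover.IsAbsClosed E) {EV A B : Over S} (θ : B.left ⟶ Spec E) [IsIso θ]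
    {σ₁ : M ⟶ EV} {σ₂ : B ⟶ EV} [IsOpenImmersion σ₁.left] [IsClosedImmersion σ₁.left]
    [IsOpenImmersion σ₂.left] [IsClosedImmersion σ₂.left]
    (hc : Set.range σ₁.left ∪ Set.range σ₂.left = Set.univ) {q : (yon S).obj EV ⟶ Z}
    (hq : (yon S).map σ₁ ≫ q = μZ)
    {fE : A ⟶ EV} {fV : A ⟶ UZ} (sA : IsPullback ((yon S).map fE) ((yon S).map fV) q φZ) (p : A.left) :
    ∃ d : Γ(A.left, ⊤), d * d = d ∧ p ∈ A.left.basicOpen d ∧ Mono ((A.left.basicOpen d).ι ≫ fE.left) := by
  rcases (hc.ge (Set.mem_univ (fE.left p)) : fE.left p ∈ _ ∪ _) with hp | hp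
  · obtain ⟨Q, r, b, sQ⟩ := exists_isPullback_of_representable
      ((IsAlgSpace.yon_obj EV).representable_from_yon ((yon S).map fE)) ((yon S).map σ₁)
    have sQA : IsPullback ((yon S).map r ≫ (yon S).map fV) ((yon S).map b) φZ μZ :=
      hq ▸ sQ.paste_horiz sA.flip
    have sq := sQA.paste_horiz sqU
    have hz : μZ ≫ z = (yon S).map (τ ≫ D.π 0) ≫ φ := by rw [← sqD.w, Functor.map_comp_assoc]
    rw [hz, ← Functor.map_comp, ← Functor.map_comp] at sq
    haveI : IsOpenImmersion ((Over.forget S).map σ₁) := ‹IsOpenImmersion σ₁.left›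
    haveI : IsClosedImmersion ((Over.forget S).map σ₁) := ‹IsClosedImmersion σ₁.left›
    exact exists_idem_of_component
      ((IsPullback.of_map (yon S) ((yon S).map_injective (by simpa using sQ.w)) sQ).map (Over.forget S))
      (exists_clopen_tuples hφ h sq) p hp
  · obtain ⟨Q, r, b, sQ⟩ := exists_isPullback_of_representable
      ((IsAlgSpace.yon_obj EV).representable_from_yon ((yon S).map fE)) ((yon S).map σ₂)
    have sQA := sQ.paste_horiz sA.flip
    rw [← Functor.map_comp] at sQA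
    haveI : Etale b.left := repWith_prop hφZ sQA
    haveI : IsSeparated UZ.hom := IntCover.isSeparated_of_isAffine_source
    haveI : IsSeparated b.left := isSeparated_of_pullback sQA.flip
    haveI : IsAffine B.left := IsAffine.of_isIso θ
    haveI : CompactSpace Q.left := compactSpace_of_qs hqs sQA
    haveI : IsOpenImmersion ((Over.forget S).map σ₂) := ‹IsOpenImmersion σ₂.left›
    haveI : IsClosedImmersion ((Over.forget S).map σ₂) := ‹IsClosedImmersion σ₂.left›
    refine exists_idem_of_component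
      ((IsPullback.of_map (yon S) ((yon S).map_injective (by simpa using sQ.w)) sQ).map (Over.forget S))
      (fun x => ?_) p hp
    obtain ⟨d, hd, hx, hm⟩ := IntCover.exists_clopen_mono hE (b.left ≫ θ) x
    haveI : Mono (((Q.left.basicOpen d).ι ≫ b.left) ≫ θ) := by rw [Category.assoc]; exact hm
    refine ⟨d, hd, hx, ?_⟩
    show Mono ((Q.left.basicOpen d).ι ≫ b.left)
    exact mono_of_mono _ θ

/-- Over the stratum the normalization is the scheme of exact tuples. -/
theorem finiteEtale_normalization [QuasiSeparatedSpace S] {Z : Space S} (hqs : IsQuasiSeparatedSp Z.obj)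
    {EV : Over S} {q : (yon S).obj EV ⟶ Z.obj} {G : Over S} {g : (yon S).obj G ⟶ Z.obj}
    {h : (yon S).obj EV ⟶ (yon S).obj G} (hloc : Norm.IsLocNorm q g h)
    {W : Space S} (j : W ⟶ Z) (hj : RepWith @IsOpenImmersion j.hom) (hWqc : IsQuasiCompactSp W.obj)
    {M : Over S} {σ₁ : M ⟶ EV} [IsOpenImmersion σ₁.left] {μ : (yon S).obj M ⟶ W.obj}
    (hμ : μ ≫ j.hom = (yon S).map σ₁ ≫ q) (hfin : RepWith @IsFinite μ) (het : RepWith @Etale μ)
    (hdis : ∀ v : ↥EV.left, Points.ofPt q v ∈ Set.range (Points.map j.hom) → v ∈ Set.range σ₁.left)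
    {P : Sp S} {fst : P ⟶ (yon S).obj G} {snd : P ⟶ W.obj} (sP : IsPullback fst snd g j.hom) :
    RepWith @IsFinite snd ∧ RepWith @Etale snd := by
  haveI : Mono j.hom := mono_of_repWith_openImmersion hj
  obtain ⟨T, a, hT, ha, has⟩ := Qs.exists_affine_atlas W.property hWqc
  haveI := hT
  let cT : Norm.Chart Z.obj :=
    ⟨T, a ≫ j.hom, repWith_comp ha (repWith_mono (fun φ (_ : IsOpenImmersion φ) => inferInstanceAs (Etale φ)) hj)⟩
  obtain ⟨N, νN, n, sN, -, -⟩ := hloc.integral (Z := T) inferInstance (a ≫ j.hom)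
  obtain ⟨PT, f₁, ν, sT⟩ := exists_isPullback_of_representable (Z.property.representable_from_yon q) (a ≫ j.hom)
  have hσ : Set.range f₁.left ⊆ Set.range σ₁.left := by
    rintro _ ⟨x, rfl⟩
    refine hdis _ ⟨Points.ofPt a (ν.left x), ?_⟩
    rw [Points.map_ofPt, ← ofPt_comp, ← ofPt_comp, ← sT.w]
  let l : PT ⟶ M := Over.homMk (IsOpenImmersion.lift σ₁.left f₁.left hσ) (by
    rw [← Over.w σ₁, IsOpenImmersion.lift_fac_assoc, Over.w])
  have hl : l ≫ σ₁ = f₁ := Over.OverMorphism.ext (IsOpenImmersion.lift_fac _ _ _)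
  haveI : Mono σ₁ := by
    haveI : Mono ((Over.forget S).map σ₁) := inferInstanceAs (Mono σ₁.left)
    exact (Over.forget S).mono_of_mono_map this
  have sM : IsPullback ((yon S).map l) ((yon S).map ν) μ a :=
    IsPullback.mk' ((cancel_mono j.hom).1 (by
      rw [Category.assoc, Category.assoc, hμ, ← Functor.map_comp_assoc, hl]; exact sT.w))
      (fun T' b b' h₁ h₂ => sT.hom_ext (by
        rw [← hl, Functor.map_comp, reassoc_of% h₁]) h₂)
      fun T' b b' e => by
        obtain ⟨k, hk₁, hk₂⟩ := sT.exists_lift (b ≫ (yon S).map σ₁) b' (by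
          rw [Category.assoc, ← hμ, reassoc_of% e])
        refine ⟨k, (cancel_mono ((yon S).map σ₁)).1 ?_, hk₂⟩
        rw [Category.assoc, ← Functor.map_comp, hl, hk₁]
  haveI : IsFinite ν.left := repWith_prop hfin sM
  have hνe : Etale ν.left := repWith_prop het sM
  obtain ⟨γ, hγ₁, hγ₂⟩ := sN.exists_lift ((yon S).map f₁ ≫ h) ((yon S).map ν)
    (by rw [Category.assoc, hloc.fac]; exact sT.w)
  have hN : Norm.IsNorm ((yon S).map ν) νN γ := hloc.norm cT _ _ _ sT N n νN sN γ hγ₁ hγ₂
  obtain ⟨θ, hθ⟩ := IntCover.exists_iso_of_isNorm hN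
  have hsr : Representable snd := representable_of_isPullback sP (Z.property.representable_from_yon g)
  have sa := hsr.isPullback a
  have sa' := sa.paste_horiz sP
  have hiso : (yon S).map (hsr.snd a) = (sa'.isoIsPullback _ _ sN).hom ≫ (yon S).map θ.hom ≫ (yon S).map ν := by
    rw [← Functor.map_comp, hθ, IsPullback.isoIsPullback_hom_snd]
  refine ⟨repWith_of_etale_cover hsr ha has sa ?_, repWith_of_etale_cover hsr ha has sa ?_⟩ <;> rw [hiso]
  · exact repWith_comp (repWith_of_isIso _) (repWith_comp (repWith_of_isIso _) (repWith_map ‹IsFinite ν.left›))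
  · exact repWith_comp (repWith_of_isIso _) (repWith_comp (repWith_of_isIso _) (repWith_map hνe))

end Groth.L23.Filtr88
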